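/-
The sporadic Suzuki group acting on the certified 1782 points.
-/
import Cfsg.Agent.S1694
import Cfsg.Agent.Lib.CosetEnum.PointClass

set_option autoImplicit false
set_option maxRecDepth 100000

namespace CfsgLib.SuzOut

open CfsgLib.CosetEnum

theorem hid : ∀ i < presSuz.k, presSuz.idx (presSuz.gen i) = i := by decide

instance grp_finite : Finite presSuz.Grp := Cfsg.Agent.S1694.upper.1

theorem card_grp : Nat.card presSuz.Grp = 448345497600 := Cfsg.Agent.S1694.result.2

/-- The representation on the cosets. -/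
noncomputable abbrev π : presSuz.Grp →* Equiv.Perm (Fin Suz1782.cert.T.n) := Suz1782.cert.hom Suz1782.hlt

/-- The image of a point under a word. -/
noncomputable abbrev run1 (w : List ℕ) (d : ℕ) : ℕ := runT Suz1782.table 7 w d

/-- The element of a word acting as the word read from the left. -/
noncomputable def el (w : List ℕ) : presSuz.Grp := (w.reverse.map presSuz.σ).prod

theorem el_nil : el [] = 1 := rfl

theorem el_append (w w' : List ℕ) : el (w ++ w') = el w' * el w := by
  simp [el, List.prod_append]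

theorem el_single (x : ℕ) : el [x] = presSuz.σ x := by simp [el]

theorem el_inv (w : List ℕ) : el w.reverse = (el w)⁻¹ := by
  rw [el, el, prod_reverse_inv presSuz.σ presSuz.σ_sq w.reverse]

/-- Words repeated. -/
def powW (w : List ℕ) : ℕ → List ℕ
  | 0 => []
  | n + 1 => powW w n ++ w

theorem el_powW (w : List ℕ) (n : ℕ) : el (powW w n) = el w ^ n := by
  induction n with
  | zero => rw [pow_zero]; rfl
  | succ n ih => rw [powW, el_append, ih, pow_succ']

/-- The image of a point. -/
noncomputable def pt (g : presSuz.Grp) (b : ℕ) : ℕ :=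
  if h : b < Suz1782.cert.T.n then (π g ⟨b, h⟩ : ℕ) else b

theorem pt_val (g : presSuz.Grp) (b : Fin Suz1782.cert.T.n) : pt g b = (π g b : ℕ) := by
  rw [pt, dif_pos b.2]

theorem pt_one (b : ℕ) : pt 1 b = b := by
  unfold pt
  split
  · rw [map_one, Equiv.Perm.one_apply]
  · rfl

theorem pt_lt (g : presSuz.Grp) {b : ℕ} (hb : b < Suz1782.cert.T.n) : pt g b < Suz1782.cert.T.n := by
  rw [pt, dif_pos hb]; exact Fin.is_lt _

theorem pt_mul (g h : presSuz.Grp) {b : ℕ} (hb : b < Suz1782.cert.T.n) : pt (g * h) b = pt g (pt h b) := by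
  have e1 := pt_val (g * h) ⟨b, hb⟩
  have e2 := pt_val h ⟨b, hb⟩
  have e3 := pt_val g (π h ⟨b, hb⟩)
  simp only at e1 e2
  rw [e1, e2, e3, map_mul]
  rfl

theorem pt_inj {g : presSuz.Grp} {p q : ℕ} (hp : p < Suz1782.cert.T.n) (hq : q < Suz1782.cert.T.n)
    (h : pt g p = pt g q) : p = q := by
  rw [← pt_one p, ← pt_one q, ← inv_mul_cancel g, pt_mul _ _ hp, pt_mul _ _ hq, h]

/-- A word in the generators. -/
def okWord (w : List ℕ) : Bool := w.all fun x => Nat.blt x 7

theorem okWord_iff {w : List ℕ} (h : okWord w = true) : ∀ x ∈ w, x < presSuz.k := fun x hx =>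
  blt_iff.mp (List.all_eq_true.mp h x hx)

theorem okWord_append {w v : List ℕ} (hw : okWord w = true) (hv : okWord v = true) : okWord (w ++ v) = true := by
  simp only [okWord, List.all_append, Bool.and_eq_true] at hw hv ⊢
  exact ⟨hw, hv⟩

theorem okWord_reverse {w : List ℕ} (hw : okWord w = true) : okWord w.reverse = true := by
  simpa [okWord] using hw

theorem pt_el {w : List ℕ} (hw : okWord w = true) {b : ℕ} (hb : b < Suz1782.cert.T.n) :
    pt (el w) b = run1 w b := by
  rw [pt, dif_pos hb]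
  exact Suz1782.cert.hom_rev Suz1782.hlt hid w (okWord_iff hw) ⟨b, hb⟩

/-- Points determining the elements of the group. -/
def six : List ℕ := [0, 2, 1, 4, 8, 14]

theorem six_lt : ∀ b ∈ six, b < Suz1782.cert.T.n := by
  intro b hb
  show b < 1782
  revert b
  decide

theorem eq_one_of_six {g : presSuz.Grp} (hg : ∀ b ∈ six, pt g b = b) : g = 1 := by
  have h1 := Cfsg.Agent.S1694.lower (le_refl (Nat.card (Suz1782.cert.fixSub Suz1782.hlt six)))
  have h2 := Suz1782.cert.card_le_of_fixSub Suz1782.hlt h1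
  rw [card_grp] at h2
  have h3 : Nat.card (Suz1782.cert.fixSub Suz1782.hlt six) ≤ 1 :=
    Nat.le_of_mul_le_mul_left (h2.trans (mul_one 448345497600).ge) (by norm_num)
  refine (Subgroup.eq_bot_iff_forall _).mp (Subgroup.card_le_one_iff_eq_bot _ |>.mp h3) g fun d hd => ?_
  exact Fin.ext ((pt_val g d).symm.trans (hg _ hd))

theorem eq_of_six {g h : presSuz.Grp} (hgh : ∀ b ∈ six, pt g b = pt h b) : g = h := by
  refine inv_mul_eq_one.mp (eq_one_of_six (g := h⁻¹ * g) fun b hb => ?_) |>.symm
  rw [pt_mul _ _ (six_lt b hb), hgh b hb, ← pt_mul _ _ (six_lt b hb), inv_mul_cancel, pt_one]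

/-- The check that two words give the same element. -/
noncomputable def sameEl (w v : List ℕ) : Bool :=
  okWord w && okWord v && six.all fun b => Nat.beq (run1 w b) (run1 v b)

theorem el_eq {w v : List ℕ} (h : sameEl w v = true) : el w = el v := by
  simp only [sameEl, Bool.and_eq_true, List.all_eq_true] at h
  refine eq_of_six fun b hb => ?_
  rw [pt_el h.1.1 (six_lt b hb), pt_el h.1.2 (six_lt b hb)]
  exact Nat.eq_of_beq_eq_true (h.2 b hb)

theorem sameEl_of_eq {w v : List ℕ} (hw : okWord w = true) (hv : okWord v = true) (e : el w = el v) :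
    sameEl w v = true := by
  simp only [sameEl, hw, hv, Bool.true_and, List.all_eq_true]
  intro b hb
  rw [← pt_el hw (six_lt b hb), ← pt_el hv (six_lt b hb), e]
  exact Nat.beq_refl _

theorem el_ne {w v : List ℕ} (hw : okWord w = true) (hv : okWord v = true) (h : sameEl w v = false) :
    el w ≠ el v := fun e => by
  rw [sameEl_of_eq hw hv e] at h
  exact absurd h (by decide)

/-- The orbit label of a point. -/
noncomputable abbrev lab (d : ℕ) : ℕ := orbLab Suz1782.orb d

/-- A word moving a point to the first point. -/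
noncomputable def pathW (fuel : ℕ) : ℕ → List ℕ :=
  Nat.rec (fun _ => []) (fun _ ih d => Bool.rec
    (force (Suz1782.table.up d) fun e => Nat.mod e 16 :: force (Nat.div e 16) ih) [] (Nat.beq d 0)) fuel

/-- The relation of `q` to `d`. -/
noncomputable def rel (d q : ℕ) : ℕ := force q fun q => lab (run1 (pathW 48 d) q)

/-- The check of a path. -/
noncomputable def pathOK (d : ℕ) : Bool := okWord (pathW 48 d) && Nat.beq (run1 (pathW 48 d) d) 0

theorem paths_ok : allN 1782 (fun d => force d pathOK) = true := by decide +kernel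

theorem path_spec {d : ℕ} (hd : d < Suz1782.cert.T.n) :
    okWord (pathW 48 d) = true ∧ run1 (pathW 48 d) d = 0 := by
  have h : force d pathOK = true := allN_spec paths_ok d hd
  rw [force_eq, pathOK, Bool.and_eq_true] at h
  exact ⟨h.1, Nat.eq_of_beq_eq_true h.2⟩

theorem rel_inv (g : presSuz.Grp) {p q : ℕ} (hp : p < Suz1782.cert.T.n) (hq : q < Suz1782.cert.T.n) :
    rel (pt g p) (pt g q) = rel p q := by
  obtain ⟨hu, h0⟩ := path_spec hp
  obtain ⟨hu', h0'⟩ := path_spec (pt_lt g hp)
  simp only [rel, force_eq]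
  set u := pathW 48 p
  set u' := pathW 48 (pt g p)
  have hn : (0 : ℕ) < Suz1782.cert.T.n := Suz1782.cert.hn
  set c := el u' * g * (el u)⁻¹ with hc
  have hua : pt (el u) p = 0 := (pt_el hu hp).trans h0
  have hinv0 : pt (el u)⁻¹ 0 = p := by
    rw [← hua, ← pt_mul _ _ hp, inv_mul_cancel, pt_one]
  have hfix : π c ⟨0, hn⟩ = ⟨0, hn⟩ := by
    refine Fin.ext ((pt_val c ⟨0, hn⟩).symm.trans ?_)
    show pt c 0 = 0
    rw [hc, pt_mul _ _ hn, hinv0, pt_mul _ _ hp, pt_el hu' (pt_lt g hp), h0']
  have hsub := Suz1782.cert.mem_sub_of_fix Suz1782.hlt hid Suz1782.hhw hfix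
  have hl := Suz1782.cert.lab_invariant Suz1782.hlt hid Suz1782.hhw Suz1782.orb Suz1782.roots Suz1782.hwR
    (by decide +kernel) Suz1782.orbs c hsub ⟨pt (el u) q, pt_lt (el u) hq⟩
  rw [← pt_val] at hl
  have e : pt c (pt (el u) q) = pt (el u') (pt g q) := by
    rw [hc, ← pt_mul _ _ hq, inv_mul_cancel_right, pt_mul _ _ hq]
  rw [← pt_el hu hq, ← pt_el hu' (pt_lt g hq), ← e]
  exact hl

theorem pt_comm {g : presSuz.Grp} {w : List ℕ} (hw : okWord w = true) (h : g * el w = el w * g) {q : ℕ}
    (hq : q < Suz1782.cert.T.n) : run1 w (pt g q) = pt g (run1 w q) := by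
  rw [← pt_el hw (pt_lt g hq), ← pt_mul _ _ hq, ← h, pt_mul _ _ hq, pt_el hw hq]

theorem run_lt {w : List ℕ} (hw : okWord w = true) {q : ℕ} (hq : q < Suz1782.cert.T.n) :
    run1 w q < Suz1782.cert.T.n := by
  rw [← pt_el hw hq]; exact pt_lt _ hq

end CfsgLib.SuzOut
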