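/-
The centralisers of an element of order 13 and of an element of order 3 in the sporadic Suzuki group.
-/
import Cfsg.Agent.Lib.SuzOut.Action
import Cfsg.Agent.Lib.SuzOut.Data

set_option autoImplicit false
set_option maxRecDepth 100000

namespace CfsgLib.SuzOut

open CfsgLib.CosetEnum

/-- The element of order 13. -/
noncomputable def X : presSuz.Grp := el xW

/-- The element of order 3. -/
noncomputable def U : presSuz.Grp := el uW

theorem words_ok : (okWord xW && okWord uW && okWord hW && okWord yW && okWord y2W) = true := by decide +kernel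

theorem xW_ok : okWord xW = true := by decide +kernel

theorem uW_ok : okWord uW = true := by decide +kernel

theorem X_pow13 : X ^ 13 = 1 := by
  rw [X, ← el_powW, ← el_nil]
  exact el_eq (by decide +kernel)

theorem X_ne : X ≠ 1 := fun h => el_ne (w := xW) (v := []) xW_ok rfl (by decide +kernel) h

theorem fixX_ok : allN 1782 (fun d => force d fun d => Nat.beq (run1 xW d) d == Nat.beq d 0) = true := by
  decide +kernel

theorem fix_zero {g : presSuz.Grp} (hg : ∀ q < Suz1782.cert.T.n, run1 xW q = q → run1 xW (pt g q) = pt g q) :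
    pt g 0 = 0 := by
  have hn : (0 : ℕ) < Suz1782.cert.T.n := Suz1782.cert.hn
  have h0 := allN_spec fixX_ok 0 (by norm_num)
  rw [force_eq, beq_iff_eq] at h0
  have h1 := hg 0 hn (Nat.eq_of_beq_eq_true h0)
  have h2 := allN_spec fixX_ok (pt g 0) (pt_lt g hn)
  rw [force_eq, beq_iff_eq, h1, Nat.beq_refl] at h2
  exact Nat.eq_of_beq_eq_true h2.symm

/-- The invariant of a point `r` compared with that of `b` for the element of order 13. -/
noncomputable def eqX (pre : List ℕ) (r b : ℕ) : Bool :=
  force r fun r => Nat.beq (lab r) (lab b) &&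
    ((List.range 6).all fun i => Nat.beq (rel r (run1 (powW xW (i + 1)) r)) (rel b (run1 (powW xW (i + 1)) b))) &&
    pre.all fun a => Nat.beq (rel a r) (rel a b) && Nat.beq (rel a (run1 xW r)) (rel a (run1 xW b)) &&
      Nat.beq (rel a (run1 (powW xW 2) r)) (rel a (run1 (powW xW 2) b))

/-- The possible images. -/
noncomputable def candX (pre : List ℕ) (b : ℕ) : List ℕ := (List.range 1782).filter fun r => eqX pre r b

theorem okWord_powW {w : List ℕ} (hw : okWord w = true) : ∀ n, okWord (powW w n) = true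
  | 0 => rfl
  | n + 1 => okWord_append (okWord_powW hw n) hw

theorem comm_powW {g : presSuz.Grp} {w : List ℕ} (h : g * el w = el w * g) (n : ℕ) :
    g * el (powW w n) = el (powW w n) * g := by
  rw [el_powW]
  exact (Commute.pow_right (show Commute g (el w) from h) n).eq

theorem lab_rel_zero (r : ℕ) : rel 0 r = lab r := by
  simp only [rel, force_eq]; rfl

theorem cand_mem {g : presSuz.Grp} (hg : g * X = X * g) {pre : List ℕ}
    (hpre : ∀ a ∈ pre, a < Suz1782.cert.T.n ∧ pt g a = a) {b : ℕ} (hb : b < Suz1782.cert.T.n) :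
    pt g b ∈ candX pre b := by
  refine List.mem_filter.mpr ⟨List.mem_range.mpr (pt_lt g hb), ?_⟩
  have hn : (0 : ℕ) < Suz1782.cert.T.n := Suz1782.cert.hn
  have h0 : pt g 0 = 0 := fix_zero fun q hq e => by rw [pt_comm xW_ok hg hq, e]
  have hp : ∀ n, run1 (powW xW n) (pt g b) = pt g (run1 (powW xW n) b) := fun n =>
    pt_comm (okWord_powW xW_ok n) (comm_powW hg n) hb
  have hrel : ∀ a ∈ pre, ∀ q, q < Suz1782.cert.T.n → rel a (pt g q) = rel a q := fun a ha q hq => by
    conv_lhs => rw [← (hpre a ha).2]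
    exact rel_inv g (hpre a ha).1 hq
  simp only [eqX, force_eq, Bool.and_eq_true, List.all_eq_true]
  refine ⟨⟨?_, fun i _ => ?_⟩, fun a ha => ⟨⟨?_, ?_⟩, ?_⟩⟩
  · rw [← lab_rel_zero, ← lab_rel_zero b]
    conv => enter [1, 1]; rw [← h0]
    rw [rel_inv g hn hb]
    exact Nat.beq_refl _
  · rw [hp, rel_inv g hb (run_lt (okWord_powW xW_ok _) hb)]
    exact Nat.beq_refl _
  · rw [hrel a ha b hb]; exact Nat.beq_refl _
  · rw [pt_comm xW_ok hg hb, hrel a ha _ (run_lt xW_ok hb)]; exact Nat.beq_refl _
  · rw [hp, hrel a ha _ (run_lt (okWord_powW xW_ok _) hb)]; exact Nat.beq_refl _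

theorem candX_qx : (candX [] qx).all (fun r => xOrb.any fun s => Nat.beq r s) = true := by decide +kernel

theorem xOrb_ok : (List.range 13).map (fun i => run1 (powW xW i) qx) = xOrb := by decide +kernel

theorem candX_pins : (xPins.map (candX xOrb) == xPins.map (fun a => [a])) = true := by decide +kernel

theorem candX_six : (six.map (candX (xOrb ++ xPins)) == six.map (fun a => [a])) = true := by decide +kernel

theorem fixed_of_cands {g : presSuz.Grp} {pre L : List ℕ} {cand : List ℕ → ℕ → List ℕ}
    (hcand : ∀ b, b < Suz1782.cert.T.n → pt g b ∈ cand pre b) (hL : ∀ a ∈ L, a < Suz1782.cert.T.n)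
    (h : (L.map (cand pre) == L.map (fun a => [a])) = true) : ∀ a ∈ L, pt g a = a := by
  intro a ha
  have e := List.map_inj_left.mp (beq_iff_eq.mp h) a ha
  have hm := hcand a (hL a ha)
  rw [e] at hm
  exact List.mem_singleton.mp hm

/-- An element centralising the element of order 13 is one of its powers. -/
theorem cent_X {g : presSuz.Grp} (hg : g * X = X * g) : ∃ i < 13, g = X ^ i := by
  have hq : qx < Suz1782.cert.T.n := show qx < 1782 by decide
  have hm := List.all_eq_true.mp candX_qx _ (cand_mem hg (pre := []) (by simp) hq)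
  simp only [List.any_eq_true] at hm
  obtain ⟨s, hs, e⟩ := hm
  rw [← xOrb_ok, List.mem_map] at hs
  obtain ⟨i, hi, rfl⟩ := hs
  refine ⟨i, List.mem_range.mp hi, ?_⟩
  have e' : pt g qx = pt (el (powW xW i)) qx := by
    rw [Nat.eq_of_beq_eq_true e, pt_el (okWord_powW xW_ok i) hq]
  set g' := (el (powW xW i))⁻¹ * g with hg'
  have hgc : g' * X = X * g' := by
    rw [hg', el_powW]
    exact ((Commute.pow_left (Commute.refl X) i).inv_left.mul_left (show Commute g X from hg)).eq
  have hfix : pt g' qx = qx := by rw [hg', pt_mul _ _ hq, e', ← pt_mul _ _ hq, inv_mul_cancel, pt_one]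
  have horb : ∀ a ∈ xOrb, a < Suz1782.cert.T.n ∧ pt g' a = a := by
    intro a ha
    rw [← xOrb_ok, List.mem_map] at ha
    obtain ⟨j, -, rfl⟩ := ha
    refine ⟨run_lt (okWord_powW xW_ok j) hq, ?_⟩
    rw [← pt_comm (okWord_powW xW_ok j) (comm_powW hgc j) hq, hfix]
  have hpins : ∀ a ∈ xPins, a < Suz1782.cert.T.n := fun a ha => (show ∀ a ∈ xPins, a < 1782 by decide) a ha
  have h2 := fixed_of_cands (fun b hb => cand_mem hgc horb hb) hpins candX_pins
  have hall : ∀ a ∈ xOrb ++ xPins, a < Suz1782.cert.T.n ∧ pt g' a = a := fun a ha =>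
    (List.mem_append.mp ha).elim (horb a) fun ha => ⟨hpins a ha, h2 a ha⟩
  have h1 : g' = 1 := eq_one_of_six (fixed_of_cands (fun b hb => cand_mem hgc hall hb) six_lt candX_six)
  rw [hg', inv_mul_eq_one] at h1
  rw [← h1, el_powW]
  rfl

/-- The invariant of a point `r` compared with that of `b` for the element of order 3. -/
noncomputable def eqU (pre : List ℕ) (r b : ℕ) : Bool :=
  force r fun r => (Nat.beq (run1 uW r) r == Nat.beq (run1 uW b) b) &&
    Nat.beq (rel r (run1 uW r)) (rel b (run1 uW b)) &&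
    pre.all fun a => Nat.beq (rel a r) (rel a b) && Nat.beq (rel a (run1 uW r)) (rel a (run1 uW b)) &&
      Nat.beq (rel a (run1 (powW uW 2) r)) (rel a (run1 (powW uW 2) b))

/-- The possible images. -/
noncomputable def candU (pre : List ℕ) (b : ℕ) : List ℕ := (List.range 1782).filter fun r => eqU pre r b

theorem candU_mem {g : presSuz.Grp} (hg : g * U = U * g) {pre : List ℕ}
    (hpre : ∀ a ∈ pre, a < Suz1782.cert.T.n ∧ pt g a = a) {b : ℕ} (hb : b < Suz1782.cert.T.n) :
    pt g b ∈ candU pre b := by
  refine List.mem_filter.mpr ⟨List.mem_range.mpr (pt_lt g hb), ?_⟩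
  have h1 : run1 uW (pt g b) = pt g (run1 uW b) := pt_comm uW_ok hg hb
  have h2 : run1 (powW uW 2) (pt g b) = pt g (run1 (powW uW 2) b) :=
    pt_comm (okWord_powW uW_ok 2) (comm_powW hg 2) hb
  have hrel : ∀ a ∈ pre, ∀ q, q < Suz1782.cert.T.n → rel a (pt g q) = rel a q := fun a ha q hq => by
    conv_lhs => rw [← (hpre a ha).2]
    exact rel_inv g (hpre a ha).1 hq
  simp only [eqU, force_eq, Bool.and_eq_true, List.all_eq_true, beq_iff_eq]
  refine ⟨⟨?_, ?_⟩, fun a ha => ⟨⟨?_, ?_⟩, ?_⟩⟩
  · rw [h1, Bool.eq_iff_iff]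
    constructor
    · intro e
      rw [pt_inj (run_lt uW_ok hb) hb (Nat.eq_of_beq_eq_true e)]
      exact Nat.beq_refl _
    · intro e
      rw [Nat.eq_of_beq_eq_true e]
      exact Nat.beq_refl _
  · rw [h1, rel_inv g hb (run_lt uW_ok hb)]; exact Nat.beq_refl _
  · rw [hrel a ha b hb]; exact Nat.beq_refl _
  · rw [h1, hrel a ha _ (run_lt uW_ok hb)]; exact Nat.beq_refl _
  · rw [h2, hrel a ha _ (run_lt (okWord_powW uW_ok 2) hb)]; exact Nat.beq_refl _

/-- The levels. -/
def levU : List (List ℕ × ℕ) := [([], 0), ([0], 117), ([0, 117], 140)]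

theorem candU_levels : (levU.map (fun p => candU p.1 p.2) == [keyA, keyB, keyC]) = true := by decide +kernel

/-- Points determined by three levels. -/
def pinsU : List ℕ := [205, 1558, 152]

theorem candU_pins : (pinsU.map (candU [0, 117, 140]) == pinsU.map (fun a => [a])) = true := by decide +kernel

/-- The check of a level of the listed elements. -/
noncomputable def rowOK (K : List ℕ) (W : List (List ℕ)) (pre : List ℕ) (b : ℕ) : Bool :=
  Nat.beq W.length K.length && (List.range K.length).all fun i => force i fun i =>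
    okWord (W.getD i []) && sameEl (uW ++ W.getD i []) (W.getD i [] ++ uW) &&
      Nat.beq (run1 (W.getD i []) b) (K.getD i 0) && pre.all fun a => Nat.beq (run1 (W.getD i []) a) a

theorem rows_ok : (rowOK keyA wdA [] 0 && rowOK keyB wdB [0] 117 && rowOK keyC wdC [0, 117] 140) = true := by
  decide +kernel

theorem row_step {g : presSuz.Grp} (hg : g * U = U * g) {K : List ℕ} {W : List (List ℕ)} {pre : List ℕ} {b : ℕ}
    (hb : b < Suz1782.cert.T.n) (hpre : ∀ a ∈ pre, a < Suz1782.cert.T.n ∧ pt g a = a)
    (hK : candU pre b = K) (hrow : rowOK K W pre b = true) :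
    ∃ i < K.length, okWord (W.getD i []) = true ∧ ((el (W.getD i []))⁻¹ * g) * U = U * ((el (W.getD i []))⁻¹ * g) ∧
      (∀ a ∈ pre ++ [b], a < Suz1782.cert.T.n ∧ pt ((el (W.getD i []))⁻¹ * g) a = a) ∧
      pt g b = K.getD i 0 := by
  have hm := candU_mem hg hpre hb
  rw [hK] at hm
  obtain ⟨i, hi, e⟩ := List.getElem_of_mem hm
  simp only [rowOK, Bool.and_eq_true, List.all_eq_true, force_eq] at hrow
  obtain ⟨⟨⟨hw, hc⟩, hk⟩, hf⟩ := hrow.2 i (List.mem_range.mpr hi)
  have e' : pt g b = K.getD i 0 := by rw [List.getD_eq_getElem _ _ hi, e]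
  have hcomm : Commute (el (W.getD i [])) U := by
    have h := el_eq hc
    rw [el_append, el_append] at h
    exact h.trans rfl |> fun h => (show el (W.getD i []) * U = U * el (W.getD i []) from h)
  refine ⟨i, hi, hw, (hcomm.inv_left.mul_left (show Commute g U from hg)).eq, fun a ha => ?_, e'⟩
  rcases List.mem_append.mp ha with ha | ha
  · refine ⟨(hpre a ha).1, ?_⟩
    rw [pt_mul _ _ (hpre a ha).1, (hpre a ha).2]
    conv_lhs => rw [← Nat.eq_of_beq_eq_true (hf a ha), ← pt_el hw (hpre a ha).1]
    rw [← pt_mul _ _ (hpre a ha).1, inv_mul_cancel, pt_one]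
  · rw [List.mem_singleton.mp ha]
    refine ⟨hb, ?_⟩
    rw [pt_mul _ _ hb, e', ← Nat.eq_of_beq_eq_true hk, ← pt_el hw hb, ← pt_mul _ _ hb, inv_mul_cancel, pt_one]

/-- The key of an element of the stabiliser of three points. -/
noncomputable def stKey (w : List ℕ) : ℕ := run1 w 4 + 2048 * (run1 w 8 + 2048 * run1 w 14)

/-- The words of the stabiliser of three points. -/
noncomputable def stWords : List (List ℕ) := stA.flatMap fun a => stB.flatMap fun b => stC.map fun c => c ++ (b ++ a)

theorem stWords_ok : (stWords.all fun w => okWord w && [0, 2, 1].all (fun d => Nat.beq (run1 w d) d)) = true := by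
  decide +kernel

theorem stKey_ok : (stWords.map stKey == stabKey) = true := by decide +kernel

theorem stabKey_nodup : stabKey.Nodup := by decide +kernel

theorem card_fix3 : Nat.card (Suz1782.cert.fixSub Suz1782.hlt [0, 2, 1]) ≤ 180 := by
  have h3 := le_refl (Nat.card (Suz1782.cert.fixSub Suz1782.hlt [0, 2, 1]))
  have h2 := Suz1782.cert.level_step Suz1782.hlt hid [0, 2] SuzChain.lev2 SuzChain.lev2_ok
    (show 1 < 1782 by decide) h3
  have h1 := Suz1782.cert.level_step Suz1782.hlt hid [0] SuzChain.lev1 SuzChain.lev1_ok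
    (show 2 < 1782 by decide) h2
  have h0 := Suz1782.cert.level_step Suz1782.hlt hid [] SuzChain.lev0 SuzChain.lev0_ok (show 0 < 1782 by decide) h1
  have h := Suz1782.cert.card_le_of_fixSub Suz1782.hlt h0
  rw [card_grp] at h
  have h' : 1782 * (1365 * (1024 * Nat.card (Suz1782.cert.fixSub Suz1782.hlt [0, 2, 1]))) ≤ 448345497600 := h
  omega

/-- The elements fixing three points are listed. -/
theorem fix3_list {g : presSuz.Grp} (hg : ∀ a ∈ [0, 2, 1], pt g a = a) : ∃ w ∈ stWords, el w = g := by
  have hlen : stWords.length = 180 := by decide +kernel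
  have hok := List.all_eq_true.mp stWords_ok
  have hlt : ∀ d : Fin Suz1782.cert.T.n, (d : ℕ) ∈ [0, 2, 1] → (d : ℕ) < Suz1782.cert.T.n := fun d _ => d.2
  let F : Fin 180 → Suz1782.cert.fixSub Suz1782.hlt [0, 2, 1] := fun i => ⟨el (stWords.getD i []), fun d hd => by
    have hi : i.1 < stWords.length := by rw [hlen]; exact i.2
    have h := hok (stWords.getD i []) (by rw [List.getD_eq_getElem _ _ hi]; exact List.getElem_mem hi)
    simp only [Bool.and_eq_true, List.all_eq_true] at h
    refine Fin.ext ((pt_val _ d).symm.trans ?_)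
    rw [pt_el h.1 d.2]
    exact Nat.eq_of_beq_eq_true (h.2 d hd)⟩
  have hF : Function.Injective F := by
    intro i j e
    have hi : i.1 < stWords.length := by rw [hlen]; exact i.2
    have hj : j.1 < stWords.length := by rw [hlen]; exact j.2
    have e' : el (stWords.getD i []) = el (stWords.getD j []) := congrArg Subtype.val e
    have wi := hok _ (List.getElem_mem hi)
    have wj := hok _ (List.getElem_mem hj)
    simp only [Bool.and_eq_true] at wi wj
    rw [List.getD_eq_getElem _ _ hi, List.getD_eq_getElem _ _ hj] at e'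
    have hk : stKey stWords[i.1] = stKey stWords[j.1] := by
      have hp : ∀ b, b < 1782 → run1 stWords[i.1] b = run1 stWords[j.1] b := fun b hb => by
        rw [← pt_el wi.1 (show b < Suz1782.cert.T.n from hb), ← pt_el wj.1 (show b < Suz1782.cert.T.n from hb), e']
      simp only [stKey, hp 4 (by norm_num), hp 8 (by norm_num), hp 14 (by norm_num)]
    have hm := beq_iff_eq.mp stKey_ok
    have hl : stabKey.length = stWords.length := by rw [← hm, List.length_map]
    have hki : stabKey[i.1]'(hl ▸ hi) = stabKey[j.1]'(hl ▸ hj) := by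
      simp only [← hm, List.getElem_map, hk]
    exact Fin.ext (stabKey_nodup.getElem_inj_iff.mp hki)
  have hb := (Nat.bijective_iff_injective_and_card F).mpr ⟨hF, le_antisymm (Nat.card_le_card_of_injective F hF)
    (by simpa using card_fix3)⟩
  obtain ⟨i, hi⟩ := hb.2 ⟨g, fun d hd => Fin.ext ((pt_val g d).symm.trans (hg _ hd))⟩
  have hi' : i.1 < stWords.length := by rw [hlen]; exact i.2
  exact ⟨stWords.getD i [], by rw [List.getD_eq_getElem _ _ hi']; exact List.getElem_mem hi', congrArg Subtype.val hi⟩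

/-- Points separating the elements of the stabiliser of three points. -/
def sepPts : List ℕ := [1305, 1314]

theorem sep_ok : (stWords.all fun w => sameEl w [] || !(sepPts.all fun p => Nat.beq (run1 w p) p)) = true := by
  decide +kernel

theorem conjH_ok : okWord conjH = true := by decide +kernel

theorem conjH_map : ([0, 2, 1, 1305, 1314].all fun p => (0 :: 117 :: 140 :: pinsU).any fun a =>
    Nat.beq (run1 conjH p) a) = true := by decide +kernel

theorem eq_one_of_pins {g : presSuz.Grp} (hg : ∀ a ∈ 0 :: 117 :: 140 :: pinsU, pt g a = a) : g = 1 := by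
  have hp : ∀ p ∈ [0, 2, 1, 1305, 1314], pt ((el conjH)⁻¹ * g * el conjH) p = p := by
    intro p hp
    have hlt : p < Suz1782.cert.T.n := (show ∀ p ∈ [0, 2, 1, 1305, 1314], p < 1782 by decide) p hp
    have h := List.all_eq_true.mp conjH_map p hp
    simp only [List.any_eq_true] at h
    obtain ⟨a, ha, e⟩ := h
    rw [pt_mul _ _ hlt, pt_el conjH_ok hlt, pt_mul _ _ (run_lt conjH_ok hlt), Nat.eq_of_beq_eq_true e, hg a ha,
      ← Nat.eq_of_beq_eq_true e, ← pt_el conjH_ok hlt, ← pt_mul _ _ hlt, inv_mul_cancel, pt_one]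
  obtain ⟨w, hw, e⟩ := fix3_list (g := (el conjH)⁻¹ * g * el conjH) fun a ha => hp a (by
    simp only [List.mem_cons, List.not_mem_nil, or_false] at ha ⊢
    tauto)
  have hsep := List.all_eq_true.mp sep_ok w hw
  have hok := List.all_eq_true.mp stWords_ok w hw
  simp only [Bool.and_eq_true] at hok
  simp only [Bool.or_eq_true, Bool.not_eq_true'] at hsep
  rcases hsep with h | h
  · have h1 := (el_eq h).symm.trans e
    rw [el_nil] at h1
    exact conj_eq_one_iff.mp (show (el conjH)⁻¹ * g * (el conjH)⁻¹⁻¹ = 1 by rw [inv_inv]; exact h1.symm)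
  · rw [List.all_eq_false] at h
    obtain ⟨p, hp', hne⟩ := h
    refine absurd ?_ hne
    have hlt : p < Suz1782.cert.T.n := (show ∀ p ∈ sepPts, p < 1782 by decide) p hp'
    rw [← pt_el hok.1 hlt, e, hp p (by
      simp only [sepPts, List.mem_cons, List.not_mem_nil, or_false] at hp' ⊢
      tauto)]
    exact Nat.beq_refl p

/-- The word of a listed element of the centraliser of the element of order 3. -/
def triW (a b c : ℕ) : List ℕ := wdC.getD c [] ++ (wdB.getD b [] ++ wdA.getD a [])

/-- The centraliser of the element of order 3 consists of the listed elements. -/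
theorem cent_U {g : presSuz.Grp} (hg : g * U = U * g) :
    ∃ a < 18, ∃ b < 60, ∃ c < 3, okWord (triW a b c) = true ∧ g = el (triW a b c) ∧ (pt g 0 = 0 → keyA.getD a 0 = 0) := by
  have hl := beq_iff_eq.mp candU_levels
  simp only [levU, List.map_cons, List.map_nil, List.cons.injEq, and_true] at hl
  have hr := rows_ok
  simp only [Bool.and_eq_true] at hr
  obtain ⟨a, ha, wa, ca, fa, ea⟩ := row_step hg (show 0 < 1782 by decide) (by simp) hl.1 hr.1.1
  obtain ⟨b, hb, wb, cb, fb, -⟩ := row_step ca (show 117 < 1782 by decide) fa hl.2.1 hr.1.2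
  obtain ⟨c, hc, wc, cc, fc, -⟩ := row_step cb (show 140 < 1782 by decide) fb hl.2.2 hr.2
  refine ⟨a, (show keyA.length = 18 by decide) ▸ ha, b, (show keyB.length = 60 by decide) ▸ hb,
    c, (show keyC.length = 3 by decide) ▸ hc, okWord_append wc (okWord_append wb wa), ?_,
    fun h => ea.symm.trans h⟩
  set r := (el (wdC.getD c []))⁻¹ * ((el (wdB.getD b []))⁻¹ * ((el (wdA.getD a []))⁻¹ * g)) with hr'
  have hpre : ∀ p ∈ [0, 117, 140], p < Suz1782.cert.T.n ∧ pt r p = p := fun p hp => fc p (by simpa using hp)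
  have hpin : ∀ p ∈ pinsU, p < Suz1782.cert.T.n := fun p hp => (show ∀ p ∈ pinsU, p < 1782 by decide) p hp
  have h2 := fixed_of_cands (fun q hq => candU_mem cc hpre hq) hpin candU_pins
  have h1 : r = 1 := eq_one_of_pins fun p hp => by
    rcases List.mem_cons.mp hp with rfl | hp
    · exact (hpre 0 (by simp)).2
    rcases List.mem_cons.mp hp with rfl | hp
    · exact (hpre 117 (by simp)).2
    rcases List.mem_cons.mp hp with rfl | hp
    · exact (hpre 140 (by simp)).2
    exact h2 p hp
  rw [hr', inv_mul_eq_one] at h1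
  rw [triW, el_append, el_append, h1]
  group

end CfsgLib.SuzOut
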