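/-
The search for the images of the element of order 5.
-/
import Cfsg.Agent.Lib.SuzOut.Cent

set_option autoImplicit false
set_option maxRecDepth 100000

namespace CfsgLib.SuzOut

open CfsgLib.CosetEnum

/-- The action of a listed element on the fixed points. -/
def act18 (a b c i : ℕ) : ℕ :=
  (actA.getD a []).getD ((actB.getD b []).getD ((actC.getD c []).getD i 0) 0) 0

/-- The filter on the fixed points. -/
def pre18 (a b c : ℕ) : Bool :=
  (List.range 18).all fun i => Nat.beq (act18 a b c (act18 a b c (act18 a b c (act18 a b c (act18 a b c i))))) i

/-- The filter of the images of the element of order 5. -/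
noncomputable def candOK (k a b c : ℕ) : Bool :=
  pre18 a b c && sameEl (powW (powW xW k ++ (triW a b c).reverse) 6) [] &&
    sameEl (powW (uW.reverse ++ (powW xW k ++ triW a b c)) 7) [] &&
    sameEl (powW (triW a b c) 5) [] && !(sameEl (triW a b c) [])

/-- All solutions are the two targets. -/
noncomputable def searchOK (k : ℕ) (t : List ℕ) : Bool :=
  (List.range 18).all fun a => (List.range 60).all fun b => (List.range 3).all fun c =>
    force a fun a => force b fun b => force c fun c => !(candOK k a b c) ||
      (Nat.beq a (t.getD 0 0) && Nat.beq b (t.getD 1 0) && Nat.beq c (t.getD 2 0))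


end CfsgLib.SuzOut
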