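/-
The solutions of the search with exponent 1.
-/
import Cfsg.Agent.Lib.SuzOut.Search

set_option autoImplicit false
set_option maxRecDepth 100000

namespace CfsgLib.SuzOut

open CfsgLib.CosetEnum

theorem search1 : searchOK 1 target1 = true := by decide +kernel

end CfsgLib.SuzOut
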