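/-
The outer automorphism group of the sporadic Suzuki group has order two.
-/
import Cfsg.Agent.Lib.SuzOut.Search1
import Cfsg.Agent.Lib.SuzOut.Search2
import Cfsg.Prelude.Def_KGroupFacts
import Mathlib.GroupTheory.Sylow

set_option autoImplicit false
set_option maxRecDepth 100000

namespace CfsgLib.SuzOut

open CfsgLib.CosetEnum

/-- The element of order 6 normalising that of order 13. -/
noncomputable def H : presSuz.Grp := el hW

/-- The element of order 5. -/
noncomputable def Y : presSuz.Grp := el yW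

theorem orderOf_X : orderOf X = 13 := by
  haveI : Fact (Nat.Prime 13) := ⟨by norm_num⟩
  exact orderOf_eq_prime X_pow13 X_ne

theorem X_pow_mod (m : ℕ) : X ^ m = X ^ (m % 13) := by
  rw [← pow_mod_orderOf, orderOf_X]

theorem UX : U * X = X ^ 3 * U := by
  rw [U, X, ← el_powW, ← el_append, ← el_append]
  exact el_eq (by decide +kernel)

theorem HX : H * X = X ^ 4 * H := by
  rw [H, X, ← el_powW, ← el_append, ← el_append]
  exact el_eq (by decide +kernel)

theorem HU : H * U = U * H := by
  rw [H, U, ← el_append, ← el_append]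
  exact el_eq (by decide +kernel)

theorem YU : Y * U = U * Y := by
  rw [Y, U, ← el_append, ← el_append]
  exact el_eq (by decide +kernel)

theorem conj_X_pow {g : presSuz.Grp} {m : ℕ} (h : g * X = X ^ m * g) (n : ℕ) : g * X ^ n * g⁻¹ = X ^ (m * n) := by
  rw [← conj_pow, h, mul_inv_cancel_right, ← pow_mul]

theorem conj_H_pow (k : ℕ) : ∀ n, H ^ n * X ^ k * (H ^ n)⁻¹ = X ^ (k * 4 ^ n) := by
  intro n
  induction n with
  | zero => simp
  | succ n ih =>
    calc H ^ (n + 1) * X ^ k * (H ^ (n + 1))⁻¹ = H * (H ^ n * X ^ k * (H ^ n)⁻¹) * H⁻¹ := by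
          rw [pow_succ']; group
      _ = X ^ (4 * (k * 4 ^ n)) := by rw [ih, conj_X_pow HX]
      _ = _ := by ring_nf

theorem residual : ∀ k : Fin 13, k.1 ≠ 0 → ∃ n : Fin 6, k.1 * 4 ^ n.1 % 13 = 1 ∨ k.1 * 4 ^ n.1 % 13 = 2 := by
  decide

/-- An automorphism, after an inner one, fixes `U` and maps `X` to `X` or to its square. -/
theorem normal_aut (α : MulAut presSuz.Grp) :
    ∃ g : presSuz.Grp, ∃ k, (k = 1 ∨ k = 2) ∧ (MulAut.conj g * α) U = U ∧ (MulAut.conj g * α) X = X ^ k := by
  classical
  haveI : Fact (Nat.Prime 13) := ⟨by norm_num⟩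
  have hf : (448345497600 : ℕ).factorization 13 = 1 := by
    rw [show (448345497600 : ℕ) = 13 ^ 1 * 34488115200 by norm_num, Nat.factorization_mul (by norm_num) (by norm_num),
      Finsupp.add_apply, Nat.Prime.factorization_pow (by norm_num), Finsupp.single_eq_same,
      Nat.factorization_eq_zero_of_not_dvd (by norm_num)]
  have hcard : ∀ z : presSuz.Grp, orderOf z = 13 →
      Nat.card (Subgroup.zpowers z) = 13 ^ (Nat.card presSuz.Grp).factorization 13 := fun z hz => by
    rw [Nat.card_zpowers, hz, card_grp, hf, pow_one]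
  let S : Sylow 13 presSuz.Grp := Sylow.ofCard _ (hcard X orderOf_X)
  let S' : Sylow 13 presSuz.Grp := Sylow.ofCard _ (hcard (α X) (by rw [MulEquiv.orderOf_eq, orderOf_X]))
  obtain ⟨g, hg⟩ := MulAction.exists_smul_eq presSuz.Grp S' S
  have hmem : g * α X * g⁻¹ ∈ (S : Subgroup presSuz.Grp) := by
    rw [← hg, Sylow.smul_def, Sylow.pointwise_smul_def, Subgroup.mem_pointwise_smul_iff_inv_smul_mem]
    simpa [MulAut.smul_def, mul_assoc] using (show α X ∈ (S' : Subgroup presSuz.Grp) from Subgroup.mem_zpowers _)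
  have hmem' : g * α X * g⁻¹ ∈ Subgroup.zpowers X := hmem
  rw [mem_zpowers_iff_mem_range_orderOf, Finset.mem_image] at hmem'
  obtain ⟨k, hk, hkX⟩ := hmem'
  rw [Finset.mem_range, orderOf_X] at hk
  set β0 : MulAut presSuz.Grp := MulAut.conj g * α with hβ0
  have h0 : β0 X = X ^ k := hkX.symm
  have hk0 : k ≠ 0 := fun e => by
    rw [e, pow_zero] at h0
    exact X_ne (β0.injective (h0.trans (map_one β0).symm))
  obtain ⟨m, hm⟩ : ∃ m : Fin 13, k * m.1 % 13 = 1 :=
    (show ∀ k : Fin 13, k.1 ≠ 0 → ∃ m : Fin 13, k.1 * m.1 % 13 = 1 by decide) ⟨k, hk⟩ hk0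
  have hU : β0 U * X = X ^ 3 * β0 U := by
    have h := congrArg β0 UX
    rw [map_mul, map_mul, map_pow, h0, ← pow_mul] at h
    have h' : β0 U * X ^ k * (β0 U)⁻¹ = X ^ (k * 3) := by rw [h, mul_inv_cancel_right]
    have h'' : β0 U * X * (β0 U)⁻¹ = X ^ 3 := by
      calc β0 U * X * (β0 U)⁻¹ = β0 U * (X ^ k) ^ m.1 * (β0 U)⁻¹ := by
            rw [← pow_mul, X_pow_mod, hm, pow_one]
        _ = (X ^ (k * 3)) ^ m.1 := by rw [← conj_pow, h']
        _ = X ^ 3 := by
            rw [← pow_mul, show k * 3 * m.1 = k * m.1 * 3 by ring, X_pow_mod, Nat.mul_mod, hm]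
    rw [← h'', inv_mul_cancel_right]
  have hw : U⁻¹ * β0 U * X = X * (U⁻¹ * β0 U) := by
    calc U⁻¹ * β0 U * X = U⁻¹ * (X ^ 3 * U) * (U⁻¹ * β0 U) := by rw [mul_assoc U⁻¹, hU]; group
      _ = X * (U⁻¹ * β0 U) := by rw [← UX]; group
  obtain ⟨i, -, hi⟩ := cent_X hw
  have hUi : β0 U = X ^ (3 * i) * U := by
    have h := conj_X_pow UX i
    rw [← h, inv_mul_cancel_right, ← hi, mul_inv_cancel_left]
  set g1 := (X ^ (5 * i))⁻¹ * g with hg1
  set β1 : MulAut presSuz.Grp := MulAut.conj g1 * α with hβ1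
  have e1 : ∀ z, β1 z = (X ^ (5 * i))⁻¹ * β0 z * X ^ (5 * i) := fun z => by
    rw [hβ1, hβ0, hg1]
    show (X ^ (5 * i))⁻¹ * g * α z * ((X ^ (5 * i))⁻¹ * g)⁻¹ = (X ^ (5 * i))⁻¹ * (g * α z * g⁻¹) * X ^ (5 * i)
    group
  have hb1U : β1 U = U := by
    have h := conj_X_pow UX (5 * i)
    rw [e1, hUi]
    calc (X ^ (5 * i))⁻¹ * (X ^ (3 * i) * U) * X ^ (5 * i)
        = (X ^ (5 * i))⁻¹ * X ^ (3 * i) * (U * X ^ (5 * i) * U⁻¹) * U := by group
      _ = (X ^ (5 * i))⁻¹ * (X ^ (3 * i) * X ^ (3 * (5 * i))) * U := by rw [h]; group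
      _ = (X ^ (5 * i))⁻¹ * X ^ (5 * i) * U := by
          rw [← pow_add, X_pow_mod (3 * i + _), X_pow_mod (5 * i),
            show (3 * i + 3 * (5 * i)) % 13 = 5 * i % 13 by omega]
      _ = U := by group
  have hb1X : β1 X = X ^ k := by
    rw [e1, h0, mul_assoc, (Commute.pow_pow_self X k (5 * i)).eq, inv_mul_cancel_left]
  obtain ⟨n, hn⟩ := residual ⟨k, hk⟩ hk0
  refine ⟨H ^ n.1 * g1, k * 4 ^ n.1 % 13, hn, ?_, ?_⟩
  · have e : (MulAut.conj (H ^ n.1 * g1) * α) U = H ^ n.1 * β1 U * (H ^ n.1)⁻¹ := by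
      rw [hβ1]
      show H ^ n.1 * g1 * α U * (H ^ n.1 * g1)⁻¹ = H ^ n.1 * (g1 * α U * g1⁻¹) * (H ^ n.1)⁻¹
      group
    rw [e, hb1U, (Commute.pow_left (show Commute H U from HU) n.1).eq, mul_inv_cancel_right]
  · have e : (MulAut.conj (H ^ n.1 * g1) * α) X = H ^ n.1 * β1 X * (H ^ n.1)⁻¹ := by
      rw [hβ1]
      show H ^ n.1 * g1 * α X * (H ^ n.1 * g1)⁻¹ = H ^ n.1 * (g1 * α X * g1⁻¹) * (H ^ n.1)⁻¹
      group
    rw [e, hb1X, conj_H_pow, X_pow_mod]

/-- The check of the action on the fixed points. -/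
noncomputable def actOK (W : List (List ℕ)) (A : List (List ℕ)) (m : ℕ) : Bool :=
  (List.range m).all fun j => okWord (W.getD j []) && (List.range 18).all fun i =>
    Nat.blt ((A.getD j []).getD i 0) 18 &&
      Nat.beq (run1 (W.getD j []) (fixU.getD i 0)) (fixU.getD ((A.getD j []).getD i 0) 0)

theorem act_ok : (actOK wdA actA 18 && actOK wdB actB 60 && actOK wdC actC 3) = true := by decide +kernel

theorem fixU_ok : (fixU.all fun q => Nat.blt q 1782) = true ∧ fixU.Nodup ∧ fixU.length = 18 := by decide +kernel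

theorem pre18_of {a b c : ℕ} (ha : a < 18) (hb : b < 60) (hc : c < 3) (h : el (triW a b c) ^ 5 = 1) :
    pre18 a b c = true := by
  have hact := act_ok
  simp only [actOK, Bool.and_eq_true, List.all_eq_true, List.mem_range, blt_iff] at hact
  obtain ⟨⟨hA, hB⟩, hC⟩ := hact
  obtain ⟨hlt, hnd, hlen⟩ := fixU_ok
  have hfl : ∀ i < 18, fixU.getD i 0 < Suz1782.cert.T.n := fun i hi => by
    rw [List.getD_eq_getElem _ _ (hlen ▸ hi)]
    exact blt_iff.mp (List.all_eq_true.mp hlt _ (List.getElem_mem _))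
  have step : ∀ i < 18, act18 a b c i < 18 ∧ pt (el (triW a b c)) (fixU.getD i 0) = fixU.getD (act18 a b c i) 0 := by
    intro i hi
    obtain ⟨hwc, hc'⟩ := hC c hc
    obtain ⟨l1, e1⟩ := hc' i hi
    obtain ⟨hwb, hb'⟩ := hB b hb
    obtain ⟨l2, e2⟩ := hb' _ l1
    obtain ⟨hwa, ha'⟩ := hA a ha
    obtain ⟨l3, e3⟩ := ha' _ l2
    refine ⟨l3, ?_⟩
    rw [triW, el_append, el_append, mul_assoc, pt_mul _ _ (hfl i hi), pt_mul _ _ (hfl i hi), pt_el hwc (hfl i hi),
      Nat.eq_of_beq_eq_true e1, pt_el hwb (hfl _ l1), Nat.eq_of_beq_eq_true e2, pt_el hwa (hfl _ l2),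
      Nat.eq_of_beq_eq_true e3]
    rfl
  simp only [pre18, List.all_eq_true, List.mem_range]
  intro i hi
  obtain ⟨l1, e1⟩ := step i hi
  obtain ⟨l2, e2⟩ := step _ l1
  obtain ⟨l3, e3⟩ := step _ l2
  obtain ⟨l4, e4⟩ := step _ l3
  obtain ⟨l5, e5⟩ := step _ l4
  have h5 : pt (el (triW a b c) ^ 5) (fixU.getD i 0) = fixU.getD i 0 := by rw [h, pt_one]
  rw [show el (triW a b c) ^ 5 = el (triW a b c) * (el (triW a b c) * (el (triW a b c) * (el (triW a b c) *
      el (triW a b c)))) by rw [← pow_two, ← pow_succ', ← pow_succ', ← pow_succ'],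
    pt_mul _ _ (hfl i hi), pt_mul _ _ (hfl i hi), pt_mul _ _ (hfl i hi), pt_mul _ _ (hfl i hi), e1, e2, e3, e4, e5,
    List.getD_eq_getElem _ _ (hlen ▸ l5), List.getD_eq_getElem _ _ (hlen ▸ hi)] at h5
  rw [hnd.getElem_inj_iff.mp h5]
  exact Nat.beq_refl i

theorem target_ok : (sameEl (triW (target1.getD 0 0) (target1.getD 1 0) (target1.getD 2 0)) yW &&
    sameEl (triW (target2.getD 0 0) (target2.getD 1 0) (target2.getD 2 0)) y2W) = true := by decide +kernel

theorem Y_rel : (sameEl (powW yW 5) [] && !(sameEl yW []) && sameEl (powW (powW xW 1 ++ yW.reverse) 6) [] &&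
    sameEl (powW (uW.reverse ++ (powW xW 1 ++ yW)) 7) []) = true := by decide +kernel

theorem yW_ok : okWord yW = true := by decide +kernel

theorem image_Y {β : MulAut presSuz.Grp} {k : ℕ} (hk : k = 1 ∨ k = 2) (hU : β U = U) (hX : β X = X ^ k) :
    β Y = el (if k = 1 then yW else y2W) := by
  have hc : β Y * U = U * β Y := by
    conv_lhs => rw [← hU]
    conv_rhs => rw [← hU]
    rw [← map_mul, ← map_mul, YU]
  obtain ⟨a, ha, b, hb, c, hc', hw, e, -⟩ := cent_U hc
  have hr := Y_rel
  simp only [Bool.and_eq_true, Bool.not_eq_true'] at hr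
  obtain ⟨⟨⟨r5, rne⟩, r6⟩, r7⟩ := hr
  have h5 : el (triW a b c) ^ 5 = 1 := by
    rw [← e, Y, ← map_pow, ← el_powW, el_eq r5, el_nil, map_one]
  have hX1 : el (powW xW 1) = X := by rw [el_powW, pow_one]; rfl
  have hYX : β (Y⁻¹ * X) = el (powW xW k ++ (triW a b c).reverse) := by
    rw [el_append, el_inv, el_powW, map_mul, map_inv, hX, e]
    rfl
  have hYXU : β (Y * X * U⁻¹) = el (uW.reverse ++ (powW xW k ++ triW a b c)) := by
    rw [el_append, el_append, el_inv, el_powW, map_mul, map_mul, map_inv, hX, hU, e]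
    rfl
  have hcand : candOK k a b c = true := by
    have hxk : okWord (powW xW k) = true := okWord_powW xW_ok k
    simp only [candOK, Bool.and_eq_true, Bool.not_eq_true']
    refine ⟨⟨⟨⟨pre18_of ha hb hc' h5, ?_⟩, ?_⟩, ?_⟩, ?_⟩
    · refine sameEl_of_eq (okWord_powW (okWord_append hxk (okWord_reverse hw)) 6) rfl ?_
      rw [el_powW, ← hYX, ← map_pow]
      have h := el_eq r6
      rw [el_powW, el_append, el_inv, hX1, el_nil] at h
      rw [show Y⁻¹ * X = (el yW)⁻¹ * X from rfl, h, map_one, el_nil]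
    · refine sameEl_of_eq (okWord_powW (okWord_append (okWord_reverse uW_ok) (okWord_append hxk hw)) 7) rfl ?_
      rw [el_powW, ← hYXU, ← map_pow]
      have h := el_eq r7
      rw [el_powW, el_append, el_append, el_inv, hX1, el_nil] at h
      rw [show Y * X * U⁻¹ = el yW * X * (el uW)⁻¹ from rfl, h, map_one, el_nil]
    · exact sameEl_of_eq (okWord_powW hw 5) rfl (by rw [el_powW, h5, el_nil])
    · rw [Bool.eq_false_iff]
      intro hs
      rw [el_eq hs, el_nil] at e
      have hY1 : Y = 1 := β.injective (e.trans (map_one β).symm)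
      exact el_ne yW_ok rfl rne hY1
  have ht := target_ok
  simp only [Bool.and_eq_true] at ht
  have key : ∀ t, searchOK k t = true → a = t.getD 0 0 ∧ b = t.getD 1 0 ∧ c = t.getD 2 0 := by
    intro t hs
    simp only [searchOK, List.all_eq_true, List.mem_range, force_eq] at hs
    have h := hs a ha b hb c hc'
    rw [hcand] at h
    simp only [Bool.not_true, Bool.false_or, Bool.and_eq_true] at h
    exact ⟨Nat.eq_of_beq_eq_true h.1.1, Nat.eq_of_beq_eq_true h.1.2, Nat.eq_of_beq_eq_true h.2⟩
  rcases hk with rfl | rfl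
  · obtain ⟨e1, e2, e3⟩ := key _ search1
    rw [e1, e2, e3] at e
    rw [if_pos rfl, e, el_eq ht.1]
  · obtain ⟨e1, e2, e3⟩ := key _ search2
    rw [e1, e2, e3] at e
    rw [if_neg (by norm_num), e, el_eq ht.2]

/-- The six letters. -/
def letters (xk y : List ℕ) : List (List ℕ) := [xk, xk.reverse, uW, uW.reverse, y, y.reverse]

/-- A word in the six letters written out. -/
def expand (L : List (List ℕ)) (w : List ℕ) : List ℕ := w.flatMap fun i => L.getD i []

theorem map_expand (β : MulAut presSuz.Grp) {L L' : List (List ℕ)} (h : ∀ i, β (el (L.getD i [])) = el (L'.getD i [])) :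
    ∀ w, β (el (expand L w)) = el (expand L' w) := by
  intro w
  induction w with
  | nil => exact map_one β
  | cons i t ih =>
    show β (el (L.getD i [] ++ expand L t)) = el (L'.getD i [] ++ expand L' t)
    rw [el_append, el_append, map_mul, ih, h]

theorem gen_ok : ((List.range 7).all fun s =>
    sameEl (expand (letters (powW xW 1) yW) (genW.getD s [])) [s] &&
      sameEl (expand (letters (powW xW 2) y2W) (genW.getD s [])) (outW.getD s [])) = true := by decide +kernel

theorem letters_map {β : MulAut presSuz.Grp} {k : ℕ} {y : List ℕ} (hU : β U = U) (hX : β X = X ^ k)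
    (hY : β Y = el y) : ∀ i, β (el ((letters (powW xW 1) yW).getD i [])) = el ((letters (powW xW k) y).getD i []) := by
  have hX1 : β (el (powW xW 1)) = el (powW xW k) := by rw [el_powW, el_powW, pow_one]; exact hX
  intro i
  match i with
  | 0 => exact hX1
  | 1 => show β (el (powW xW 1).reverse) = el (powW xW k).reverse; rw [el_inv, el_inv, map_inv, hX1]
  | 2 => exact hU
  | 3 => show β (el uW.reverse) = el uW.reverse; rw [el_inv, map_inv]; exact congrArg (·⁻¹) hU
  | 4 => exact hY
  | 5 => show β (el yW.reverse) = el y.reverse; rw [el_inv, el_inv, map_inv]; exact congrArg (·⁻¹) hY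
  | n + 6 => exact map_one β

/-- The images of the generators under the outer automorphism. -/
def outF (x : ℕ) : List ℕ := outW.getD x []

theorem prod_out : ∀ w : List ℕ, (w.map fun x => el (outF x)).prod = el (w.reverse.flatMap outF) := by
  intro w
  induction w with
  | nil => rfl
  | cons x t ih =>
    rw [List.map_cons, List.prod_cons, ih, List.reverse_cons, List.flatMap_append, el_append]
    simp

theorem out_sq_ok : ((List.range 7).all fun x => sameEl (outF x ++ outF x) []) = true := by decide +kernel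

theorem out_sq (x : ℕ) : el (outF x) * el (outF x) = 1 := by
  by_cases hx : x < 7
  · rw [← el_append, ← el_nil]
    exact el_eq (List.all_eq_true.mp out_sq_ok x (List.mem_range.mpr hx))
  · rw [show outF x = [] from List.getD_eq_default _ _ (show 7 ≤ x by omega), el_nil, one_mul]

theorem out_rels_ok : (presSuz.rels.all fun w => sameEl (w.reverse.flatMap outF) []) = true := by decide +kernel

/-- The outer automorphism as an endomorphism. -/
noncomputable def omegaHom : presSuz.Grp →* presSuz.Grp :=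
  PresentedGroup.toGroup (f := (fun x => el (outF x)) ∘ presSuz.idx)
    (presSuz.lift_rel out_sq fun w hw => by rw [prod_out, el_eq (List.all_eq_true.mp out_rels_ok w hw), el_nil])

theorem omegaHom_gen {x : ℕ} (hx : x < 7) : omegaHom (el [x]) = el (outF x) := by
  rw [el_single, Pres.σ, if_pos hx]
  exact (PresentedGroup.toGroup.of _).trans (congrArg (fun x => el (outF x)) (hid x hx))

theorem omegaHom_word : ∀ w, okWord w = true → omegaHom (el w) = el (w.flatMap outF) := by
  intro w
  induction w with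
  | nil => exact fun _ => map_one _
  | cons x t ih =>
    intro h
    simp only [okWord, List.all_cons, Bool.and_eq_true] at h
    show omegaHom (el ([x] ++ t)) = el (outF x ++ t.flatMap outF)
    rw [el_append, el_append, map_mul, ih h.2, omegaHom_gen (blt_iff.mp h.1)]

theorem omega_words : (sameEl (uW.flatMap outF) uW && sameEl (xW.flatMap outF) (powW xW 2)) = true := by
  decide +kernel

theorem omegaHom_U : omegaHom U = U := by
  have h := omega_words
  simp only [Bool.and_eq_true] at h
  exact (omegaHom_word uW uW_ok).trans (el_eq h.1)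

theorem omegaHom_X : omegaHom X = X ^ 2 := by
  have h := omega_words
  simp only [Bool.and_eq_true] at h
  exact ((omegaHom_word xW xW_ok).trans (el_eq h.2)).trans (el_powW _ _)

theorem omegaHom_bijective : Function.Bijective omegaHom := by
  haveI : IsSimpleGroup presSuz.Grp := Cfsg.Agent.S1694.result.1
  refine Finite.injective_iff_bijective.mp ((MonoidHom.ker_eq_bot_iff omegaHom).mp ?_)
  refine ((MonoidHom.normal_ker omegaHom).eq_bot_or_eq_top).resolve_right fun h => ?_
  have h0 : U ∈ omegaHom.ker := h ▸ Subgroup.mem_top _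
  rw [MonoidHom.mem_ker, omegaHom_U] at h0
  exact el_ne (w := uW) (v := []) uW_ok rfl (by decide +kernel) h0

/-- The outer automorphism. -/
noncomputable def omega : MulAut presSuz.Grp := MulEquiv.ofBijective omegaHom omegaHom_bijective

theorem aut_ext {α β : MulAut presSuz.Grp} (h : ∀ x < 7, α (el [x]) = β (el [x])) : α = β := by
  have e := MonoidHom.eq_of_eqOn_dense presSuz.gen_closure (f := α.toMonoidHom) (g := β.toMonoidHom) (by
    rintro _ ⟨x, hx, rfl⟩
    rw [← el_single]
    exact h x hx)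
  exact MulEquiv.ext fun z => DFunLike.congr_fun e z

/-- Every automorphism is inner or the product of an inner and the outer one. -/
theorem aut_cases (α : MulAut presSuz.Grp) :
    ∃ g : presSuz.Grp, MulAut.conj g * α = 1 ∨ MulAut.conj g * α = omega := by
  obtain ⟨g, k, hk, hU, hX⟩ := normal_aut α
  refine ⟨g, ?_⟩
  set β := MulAut.conj g * α
  have hY := image_Y hk hU hX
  have hl := map_expand β (letters_map hU hX hY)
  have hgen : ∀ s < 7, sameEl (expand (letters (powW xW 1) yW) (genW.getD s [])) [s] = true ∧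
      sameEl (expand (letters (powW xW 2) y2W) (genW.getD s [])) (outW.getD s []) = true := fun s hs => by
    have := List.all_eq_true.mp gen_ok s (List.mem_range.mpr hs)
    simpa only [Bool.and_eq_true] using this
  rcases hk with rfl | rfl
  · refine Or.inl (aut_ext fun s hs => ?_)
    rw [if_pos rfl] at hl
    show β (el [s]) = el [s]
    conv_lhs => rw [← el_eq (hgen s hs).1]
    rw [hl, el_eq (hgen s hs).1]
  · refine Or.inr (aut_ext fun s hs => ?_)
    rw [if_neg (by norm_num)] at hl
    conv_lhs => rw [← el_eq (hgen s hs).1]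
    rw [hl, el_eq (hgen s hs).2]
    exact (omegaHom_gen hs).symm

/-- The check that no element fixing the first point realises the outer automorphism. -/
noncomputable def innOK : Bool :=
  (List.range 18).all fun a => force a fun a => !(Nat.beq (keyA.getD a 0) 0) ||
    (List.range 60).all fun b => (List.range 3).all fun c => force b fun b => force c fun c =>
      !(sameEl (xW ++ triW a b c) (triW a b c ++ powW xW 2))

theorem inn_ok : innOK = true := by decide +kernel

theorem omega_not_inner : omega ∉ Cfsg.Inn presSuz.Grp := by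
  rintro ⟨g, hg⟩
  have hU : g * U = U * g := by
    have h : omega U = U := omegaHom_U
    rw [← hg, MulAut.conj_apply] at h
    calc g * U = g * U * g⁻¹ * g := by group
      _ = U * g := by rw [h]
  have hX : g * X = X ^ 2 * g := by
    have h : omega X = X ^ 2 := omegaHom_X
    rw [← hg, MulAut.conj_apply] at h
    calc g * X = g * X * g⁻¹ * g := by group
      _ = X ^ 2 * g := by rw [h]
  obtain ⟨a, ha, b, hb, c, hc, hw, e, hzero⟩ := cent_U hU
  have hg0 : pt g 0 = 0 := fix_zero fun q hq hfix => by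
    have h2 : pt (X ^ 2) (pt g q) = pt g q := by
      rw [← pt_mul _ _ hq, ← hX, pt_mul _ _ hq, X, pt_el xW_ok hq, hfix]
    have hpow : ∀ n, pt ((X ^ 2) ^ n) (pt g q) = pt g q := by
      intro n
      induction n with
      | zero => rw [pow_zero, pt_one]
      | succ n ih => rw [pow_succ, pt_mul _ _ (pt_lt g hq), h2, ih]
    have h7 := hpow 7
    rw [← pow_mul, X_pow_mod, show 2 * 7 % 13 = 1 from rfl, pow_one, X, pt_el xW_ok (pt_lt g hq)] at h7
    exact h7
  have h := inn_ok
  simp only [innOK, List.all_eq_true, List.mem_range, force_eq, Bool.or_eq_true, Bool.not_eq_true'] at h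
  rcases h a ha with h | h
  · rw [hzero hg0, Nat.beq_refl] at h
    exact absurd h (by decide)
  · have hne := h b hb c hc
    rw [sameEl_of_eq (okWord_append xW_ok hw) (okWord_append hw (okWord_powW xW_ok 2))
      (by rw [el_append, el_append, el_powW, ← e]; exact hX)] at hne
    exact absurd hne (by decide)

theorem card_out : Nat.card (Cfsg.Out presSuz.Grp) = 2 := by
  rw [Nat.card_eq_two_iff]
  refine ⟨1, QuotientGroup.mk omega, fun h => omega_not_inner ((QuotientGroup.eq_one_iff _).mp h.symm), ?_⟩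
  refine Set.eq_univ_of_forall fun q => ?_
  obtain ⟨α, rfl⟩ := QuotientGroup.mk_surjective q
  obtain ⟨g, hg | hg⟩ := aut_cases α
  · refine Or.inl ((QuotientGroup.eq_one_iff _).mpr ?_)
    rw [eq_inv_of_mul_eq_one_right hg]
    exact inv_mem (show MulAut.conj g ∈ Cfsg.Inn presSuz.Grp from ⟨g, rfl⟩)
  · refine Or.inr ?_
    show QuotientGroup.mk α = QuotientGroup.mk omega
    rw [← hg, QuotientGroup.mk_mul, (QuotientGroup.eq_one_iff _).mpr (show MulAut.conj g ∈ Cfsg.Inn presSuz.Grp from ⟨g, rfl⟩), one_mul]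

end CfsgLib.SuzOut
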